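import Cfsg.Agent.Criterion.Centres
import Cfsg.Agent.Criterion.MaxStab
import Cfsg.Agent.Criterion.UnitalFix
import Cfsg.Agent.Criterion.Endgame

/-!
The case `k = A * f` of the criterion.

Every moved coset is joined to its image by a member at `a` centralising `u`, so every pair
stabiliser has even order; `n - 1 = (A + 1) (f - 1)` is a power of `2`, so the members at a coset
commute, `k + 1` is a power of `2` and `f = A + 2`, and the endgame applies.
-/

set_option autoImplicit false

namespace CfsgLib.Criterion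

open Cfsg CfsgLib.StronglyEmbedded CfsgLib.StrongEmb

variable {G : Type*} [Group G] [Finite G] {H : Subgroup G} {Z : Set G}

/-- An involution outside the members is bad, in a group generated by the members. -/
theorem Setting.isBad_of_notMem (h : Setting H Z) (htop : Subgroup.closure Z = ⊤)
    (hmov : Moving H Z) {w : G} (hw : orderOf w = 2) (hwZ : w ∉ Z) : IsBad H w := by
  refine ⟨hw, ?_⟩
  by_contra hno
  push Not at hno
  refine hwZ (h.centred.mem_of_good hmov hw (htop.symm ▸ Subgroup.mem_top w) fun a b ha hb => ?_)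
  by_contra hab
  exact hno a b hab ha hb

/-- `k = A * f` is impossible. -/
theorem Setting.false_of_count_eq_mul (h : Setting H Z) (htop : Subgroup.closure Z = ⊤)
    (hmov : Moving H Z) (hloc : HasLocal H Z) {u : G} {a b : G ⧸ H} (hu : IsBad H u)
    (ha : u • a = a) (hb : u • b = b) (hba : b ≠ a)
    (hA : 2 ≤ Nat.card (fixedMembers H Z u a))
    (hk : count H Z = Nat.card (fixedMembers H Z u a) * (fixedPts H u).ncard) : False := by
  have hclosed : ∀ w : G, orderOf w = 2 → w ∉ Z → IsBad H w := fun w hw hwZ =>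
    h.isBad_of_notMem htop hmov hw hwZ
  obtain ⟨x₀, hx₀⟩ := hmov u hu.1 (htop.symm ▸ Subgroup.mem_top u)
  obtain ⟨d, -, hkd, -, hall, hcount⟩ :=
    h.exists_degree hloc (h.isBad_mul_of_top hmov htop) hu ha hA hx₀
  set A := Nat.card (fixedMembers H Z u a) with hAdef
  obtain ⟨i, m, e, hi1, hi3, hq, hqe, hf, -⟩ := exists_card_fixedPts hloc hu ha hA hb hba
  have hd : d = (fixedPts H u).ncard := Nat.eq_of_mul_eq_mul_left (by omega) (hkd.symm.trans hk)
  -- every pair stabiliser has even order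
  have hev : EvenPairs H := evenPairs_of_full h hu ha fun x hx => by
    obtain ⟨t, ht, hta, htx, hut⟩ :=
      exists_swapper_centred h hloc hclosed hu ha hx ((hall x hx).trans hd)
    exact ⟨t, ht, hta, htx, hut⟩
  -- `n - 1` is a power of `2`
  rw [hd] at hcount
  have hfn : (fixedPts H u).ncard ≤ H.index := by
    rw [Subgroup.index, ← Nat.card_coe_set_eq]
    exact Nat.card_le_card_of_injective _ Subtype.val_injective
  have hsub : H.index - (fixedPts H u).ncard = A * ((fixedPts H u).ncard - 1) :=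
    Nat.eq_of_mul_eq_mul_left (show 0 < (fixedPts H u).ncard by omega)
      (hcount.trans (mul_assoc _ _ _))
  rw [hf, Nat.add_sub_cancel, ← hAdef] at hsub
  rw [hf] at hfn
  have hn : H.index = (A + 1) * (A + 1) ^ i + 1 := by
    obtain ⟨F, hF⟩ : ∃ F, (A + 1) ^ i = F := ⟨_, rfl⟩
    rw [hF] at hsub hfn ⊢
    have h1 : (A + 1) * F = A * F + F := Nat.succ_mul A F
    obtain ⟨N, hN⟩ : ∃ N, A * F = N := ⟨_, rfl⟩
    rw [hN] at hsub h1
    rw [h1]
    omega
  have hcomm : ∀ z ∈ members H Z a, ∀ w ∈ members H Z a, Commute z w := fun z hz w hw =>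
    commute_members_of_index_eq h hloc hclosed hev (e := m + e)
      (by rw [hn, hqe, hq, ← pow_add]) hz hw
  -- `k + 1` is a power of `2`
  obtain ⟨r, hr⟩ : ∃ r, count H Z + 1 = 2 ^ r := by
    have hset : fixedMembers H Z 1 a = members H Z a :=
      Set.ext fun z => ⟨fun hz => hz.1, fun hz => ⟨hz, Commute.one_left z⟩⟩
    obtain ⟨W, -, hcard, ⟨r, hr⟩, -, -⟩ := h.exists_insertGroup (g := 1) (a := a) (hset ▸ hcomm)
    exact ⟨r, by rw [← hr, hcard, hset, h.card_members]⟩
  rcases Nat.lt_or_ge i 2 with hi | hi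
  · obtain rfl : i = 1 := by omega
    refine h.false_of_bad_of_regular htop hmov ?_ hcomm hu
    rw [hn, hk, hf, ← hAdef, pow_one]
    ring
  obtain ⟨j, rfl⟩ : ∃ j, i = j + 2 := ⟨i - 2, by omega⟩
  set q := A + 1 with hqdef
  have hAq : A = q - 1 := by omega
  have heven : Even q := by
    rw [hq]; refine (Nat.even_pow).mpr ⟨even_two, ?_⟩
    rintro rfl; rw [pow_zero] at hq; omega
  have hkey : count H Z + 1 = q * (q ^ (j + 2) - q ^ (j + 1) + 1) := by
    have h1 : q ^ (j + 1) ≤ q ^ (j + 2) := Nat.pow_le_pow_right (by omega) (by omega)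
    have h2 : q ^ (j + 2) = q * q ^ (j + 1) := pow_succ' q (j + 1)
    rw [hk, hf, hAq]
    zify [h1, show 1 ≤ q by omega]
    ring
  have hbig : q ^ (j + 1) < q ^ (j + 2) := Nat.pow_lt_pow_right (by omega) (by omega)
  obtain ⟨s, -, hs⟩ := (Nat.dvd_prime_pow Nat.prime_two).mp
    (show q ^ (j + 2) - q ^ (j + 1) + 1 ∣ 2 ^ r by rw [← hr, hkey]; exact dvd_mul_left _ _)
  have hodd : Odd (q ^ (j + 2) - q ^ (j + 1) + 1) :=
    Even.add_one ((Nat.even_sub hbig.le).mpr
      ⟨fun _ => (Nat.even_pow).mpr ⟨heven, by omega⟩, fun _ => (Nat.even_pow).mpr ⟨heven, by omega⟩⟩)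
  rcases Nat.eq_zero_or_pos s with rfl | hspos
  · rw [pow_zero] at hs; omega
  · rw [hs] at hodd
    exact Nat.not_even_iff_odd.mpr hodd ((Nat.even_pow).mpr ⟨even_two, by omega⟩)

end CfsgLib.Criterion
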