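import Cfsg.Agent.Criterion.SubLine
import Cfsg.Agent.StrongEmb.RankOne
import Cfsg.Agent.StrongEmb.RegularCoreFinal
import Cfsg.Agent.StrongEmb.Glue

/-!
The induction input `SubLine` from strong embedding in proper subgroups generated by members.

For `y` moving a coset the members centralising `y` generate a proper subgroup `X`.  In 2-rank one
two of them are congruent modulo the odd core of `X` by the Z*-theorem; otherwise two of them at one
coset commute modulo it by Bender's theorem.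
-/

set_option autoImplicit false
set_option linter.style.haveILetI false

universe u

namespace CfsgLib.Criterion

open Cfsg CfsgLib.StronglyEmbedded CfsgLib.StrongEmb

variable {G : Type u} [Group G] {H : Subgroup G} {Z : Set G}

/-- In every proper subgroup generated by members with two centres, a point stabiliser is strongly
embedded. -/
def ProperSE (H : Subgroup G) (Z : Set G) : Prop :=
  ∀ (X : Subgroup G) (a b : G ⧸ H), X ≠ ⊤ → X = Subgroup.closure {z | z ∈ Z ∧ z ∈ X} → a ≠ b →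
    (∃ z ∈ Z, z ∈ X ∧ z • a = a) → (∃ t ∈ Z, t ∈ X ∧ t • b = b) →
      IsStronglyEmbedded ((MulAction.stabilizer G a).subgroupOf X)

variable [Finite G]

/-- Two involutions of a strongly embedded subgroup commute modulo the odd core in 2-rank two. -/
theorem sq_mul_mem_oddCore {L : Type u} [Group L] [Finite L] {K : Subgroup L}
    (hK : IsStronglyEmbedded K) (h2 : RankTwo L) {z w : L} (hz : orderOf z = 2) (hzK : z ∈ K)
    (hw : orderOf w = 2) (hwK : w ∈ K) : (z * w) ^ 2 ∈ oddCore L := by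
  have hCK := Subgroup.normalCore_le K
  have hodd := odd_card_of_normal_le hK hCK
  obtain ⟨Q, -, -, hinv⟩ := pPlus_all regularQAll _ _
    (stronglyEmbedded_quotient (C := K.normalCore) hK hCK hodd) (rankTwo_quotient hK hodd h2)
    (normalCore_quotient (H := K) (C := K.normalCore) rfl)
  obtain ⟨hzQ, -⟩ := hinv _ (orderOf_mk_two hodd hz) ⟨z, hzK, rfl⟩
  have hc := (hinv _ (orderOf_mk_two hodd hw) ⟨w, hwK, rfl⟩).2 _ hzQ
  refine TwoComponents.le_oddCore inferInstance hodd ((QuotientGroup.eq_one_iff _).mp ?_)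
  change QuotientGroup.mk' K.normalCore ((z * w) ^ 2) = 1
  rw [map_pow, map_mul, hc.symm.mul_pow, sq, sq, mul_self_eq_one (orderOf_mk_two hodd hz),
    mul_self_eq_one (orderOf_mk_two hodd hw), one_mul]

/-- The induction input of step (iii). -/
theorem Setting.subLine (h : Setting H Z) (hX : ProperSE H Z) : SubLine H Z := by
  intro y a b hab hmove ⟨z₀, hz₀⟩ ⟨t, ht⟩
  set X := Subgroup.closure {z | z ∈ Z ∧ Commute y z} with hXdef
  have hXy : ∀ g ∈ X, Commute g y := by
    have hle : X ≤ Subgroup.centralizer ({y} : Set G) :=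
      (Subgroup.closure_le _).mpr fun z hz => Subgroup.mem_centralizer_singleton_iff.mpr hz.2.symm.eq
    exact fun g hg => Subgroup.mem_centralizer_singleton_iff.mp (hle hg)
  have hmemX : ∀ {z : G}, z ∈ Z → Commute y z → z ∈ X := fun hz hyz =>
    Subgroup.subset_closure ⟨hz, hyz⟩
  have hne : X ≠ ⊤ := by
    intro htop
    obtain ⟨c, hc⟩ := hmove
    refine hc ?_
    obtain ⟨g, hg⟩ := MulAction.exists_smul_eq G a c
    have hya : y • a = a := h.smul_eq_of_commute hz₀.1.1 hz₀.1.2 hz₀.2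
    rw [← hg, smul_smul, ← (hXy g (htop ▸ Subgroup.mem_top g)).eq, ← smul_smul, hya]
  have hgen : X = Subgroup.closure {z | z ∈ Z ∧ z ∈ X} :=
    le_antisymm (Subgroup.closure_mono fun z hz => ⟨hz.1, hmemX hz.1 hz.2⟩)
      ((Subgroup.closure_le _).mpr fun z hz => hz.2)
  refine ⟨(oddCore X).map X.subtype, ?_, ?_, fun z hz w hw => ?_⟩
  · rw [Subgroup.card_map_of_injective X.subtype_injective]
    exact TwoComponents.odd_card_oddCore X
  · intro g hg k hk
    set K := (oddCore X).map X.subtype with hKdef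
    have hKX : K ≤ X := Subgroup.map_subtype_le _
    have hconjX : ∀ g' : G, Commute g' y → ∀ l ∈ X, g' * l * g'⁻¹ ∈ X := by
      intro g' hg' l hl
      have hle : X ≤ X.comap (MulAut.conj g').toMonoidHom := by
        refine (Subgroup.closure_le _).mpr fun z hz => Subgroup.subset_closure ⟨?_, ?_⟩
        · exact h.conj_mem g' z hz.1
        · have := hz.2.map (MulAut.conj g')
          rw [MulAut.conj_apply, MulAut.conj_apply, commute_iff_conj_eq.mp hg'] at this
          exact this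
      exact hle hl
    set K' := (K.map (MulAut.conj g).toMonoidHom).subgroupOf X with hK'
    have hn : K'.Normal := by
      constructor
      rintro x ⟨k', hk', hx⟩ l
      refine ⟨g⁻¹ * l * g⁻¹⁻¹ * k' * (g⁻¹ * l * g⁻¹⁻¹)⁻¹, ?_, ?_⟩
      · obtain ⟨k'', hk'', rfl⟩ := hk'
        exact ⟨⟨_, hconjX g⁻¹ hg.inv_left l l.2⟩ * k'' * (⟨_, hconjX g⁻¹ hg.inv_left l l.2⟩ : X)⁻¹,
          (inferInstance : (oddCore X).Normal).conj_mem k'' hk'' _, rfl⟩
      · have e : g * k' * g⁻¹ = (x : G) := hx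
        change g * (g⁻¹ * (l : G) * g⁻¹⁻¹ * k' * (g⁻¹ * (l : G) * g⁻¹⁻¹)⁻¹) * g⁻¹ =
          (l : G) * (x : G) * (l : G)⁻¹
        rw [← e]
        group
    have hle' : K.map (MulAut.conj g).toMonoidHom ≤ X := by
      rintro _ ⟨k', hk', rfl⟩
      exact hconjX g hg k' (hKX hk')
    have hodd' : Odd (Nat.card K') := by
      rw [hK', Nat.card_congr (Subgroup.subgroupOfEquivOfLe hle').toEquiv,
        Subgroup.card_map_of_injective (MulAut.conj g).injective, hKdef,
        Subgroup.card_map_of_injective X.subtype_injective]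
      exact TwoComponents.odd_card_oddCore X
    exact ⟨⟨g * k * g⁻¹, hle' ⟨k, hk, rfl⟩⟩, TwoComponents.le_oddCore hn hodd' ⟨k, hk, rfl⟩, rfl⟩
  -- two members at `a`
  set zL : X := ⟨z, hmemX hz.1.1 hz.2⟩ with hzL
  set wL : X := ⟨w, hmemX hw.1.1 hw.2⟩ with hwL
  have hzo : orderOf zL = 2 := by rw [hzL, Subgroup.orderOf_mk]; exact h.order_two z hz.1.1
  have hwo : orderOf wL = 2 := by rw [hwL, Subgroup.orderOf_mk]; exact h.order_two w hw.1.1
  suffices hsq : (zL * wL) ^ 2 ∈ oddCore X from ⟨_, hsq, rfl⟩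
  by_cases h2 : RankTwo X
  · exact sq_mul_mem_oddCore (hX X a b hne hgen hab ⟨z, hz.1.1, hmemX hz.1.1 hz.2, hz.1.2⟩
      ⟨t, ht.1.1, hmemX ht.1.1 ht.2, ht.1.2⟩) h2 hzo hz.1.2 hwo hw.1.2
  -- in rank one the two are conjugate, hence congruent modulo the core
  obtain ⟨g₁, hg₁, e₁⟩ := exists_zpowers_conj_of_odd (h.order_two z hz.1.1) (h.order_two t ht.1.1)
    (h.odd_mul hz.1.1 ht.1.1 hz.1.2 ht.1.2 hab)
  obtain ⟨g₂, hg₂, e₂⟩ := exists_zpowers_conj_of_odd (h.order_two t ht.1.1) (h.order_two w hw.1.1)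
    (h.odd_mul ht.1.1 hw.1.1 ht.1.2 hw.1.2 hab.symm)
  have hgX : g₂ * g₁ ∈ X := X.mul_mem
    (Subgroup.zpowers_le.mpr (X.mul_mem (hmemX ht.1.1 ht.2) wL.2) hg₂)
    (Subgroup.zpowers_le.mpr (X.mul_mem zL.2 (hmemX ht.1.1 ht.2)) hg₁)
  have hconj : (⟨g₂ * g₁, hgX⟩ : X) * zL * (⟨g₂ * g₁, hgX⟩ : X)⁻¹ = wL := Subtype.ext (by
    change g₂ * g₁ * z * (g₂ * g₁)⁻¹ = w
    rw [← e₂, ← e₁]; group)
  have hstar := ZStar.inZStar_of_isolated hzo (isIsolated_of_not_rankTwo h2 hzo) ⟨g₂ * g₁, hgX⟩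
  rw [hconj, inv_eq_self hzo] at hstar
  have hmem : zL * wL ∈ oddCore X := by
    have := (oddCore X).inv_mem hstar
    rwa [mul_inv_rev, inv_eq_self hzo, inv_eq_self hwo] at this
  exact Subgroup.pow_mem _ hmem 2

end CfsgLib.Criterion
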