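import Cfsg.Agent.Criterion.Derive
import Cfsg.Agent.Eq.Def_Local

/-!
A tightly embedded subgroup `Q` whose conjugates meet `N = N_G(Q)` in odd order: in the normal
closure of `Q` the normaliser is strongly embedded.

The involutions of the conjugates of `Q` satisfy the criterion for `N`. In the subgroup `K₀` they
generate, an element of prime order of the inverted torus fixes exactly two cosets, and a Frattini
argument shows that `Q` is odd modulo `K₀`.
-/

set_option autoImplicit false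
set_option linter.unusedSectionVars false
set_option linter.style.haveILetI false

universe u

namespace CfsgLib.Criterion

open Cfsg MulAction CfsgLib.StronglyEmbedded CfsgLib.StrongEmb
open scoped Pointwise

/-- In a group with a strongly embedded subgroup `L`, of 2-rank at least two, some element of `L` of
prime power order fixes exactly the base coset and one other coset. -/
theorem exists_two_point_element {X : Type u} [Group X] [Finite X] {L : Subgroup X}
    (hL : IsStronglyEmbedded L) (h2 : RankTwo X) :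
    ∃ p : ℕ, p.Prime ∧ ∃ r x : X, r ∈ L ∧ x ∉ L ∧ (∃ k : ℕ, r ^ p ^ k = 1) ∧ x⁻¹ * r * x ∈ L ∧
      ∀ y : X, y⁻¹ * r * y ∈ L → y ∈ L ∨ x⁻¹ * y ∈ L := by
  classical
  obtain ⟨Q, -, -, -, hdata⟩ := exists_quotient_data hL h2
  obtain ⟨v, hvL, hv⟩ := CfsgLib.StronglyEmbedded.exists_involution_not_mem hL
  have hd := hdata v hv hvL
  set π := QuotientGroup.mk' L.normalCore with hπ
  set a : (X ⧸ L.normalCore) ⧸ L.map π :=
    ((1 : X ⧸ L.normalCore) : (X ⧸ L.normalCore) ⧸ L.map π) with ha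
  have hcL := Subgroup.normalCore_le L
  have hpt : ∀ y : X, π y • a = a ↔ y ∈ L := fun y => by
    rw [ha, smul_coset_eq_iff, inv_one, one_mul, mul_one]
    exact ⟨mem_of_mk_mem_map hcL, fun h => ⟨y, h, rfl⟩⟩
  have hconj : ∀ g y : X, π g • π y • a = π y • a ↔ y⁻¹ * g * y ∈ L := fun g y => by
    rw [← hpt (y⁻¹ * g * y), map_mul, map_mul, map_inv, mul_smul, mul_smul, inv_smul_eq_iff]
  -- an element of prime order of the torus
  have hq := hd.four_le_q
  obtain ⟨p, hp, hpd⟩ := Nat.exists_prime_and_dvd (show Nat.card hd.KSub ≠ 1 by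
    rw [hd.card_K]; omega)
  haveI : Fact p.Prime := ⟨hp⟩
  obtain ⟨⟨k, hk⟩, hko⟩ := exists_prime_orderOf_dvd_card' (G := hd.KSub) p hpd
  rw [Subgroup.orderOf_mk] at hko
  -- a preimage of prime power order
  obtain ⟨g, hg⟩ := QuotientGroup.mk'_surjective L.normalCore k
  obtain ⟨i, m, hm, hgo⟩ :=
    Nat.exists_eq_pow_mul_and_not_dvd (orderOf_pos g).ne' p hp.ne_one
  have hrK : π (g ^ m) ∈ hd.KSub := by
    rw [map_pow, show π g = k from hg]
    exact pow_mem hk m
  have hr1 : π (g ^ m) ≠ 1 := by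
    rw [map_pow, show π g = k from hg]
    exact fun h => hm (hko ▸ orderOf_dvd_of_pow_eq_one h)
  have hKD := hd.K_le hrK
  refine ⟨p, hp, g ^ m, v, (hpt _).mp hKD.1, hvL, ⟨i, ?_⟩, (hconj _ _).mp hKD.2, fun y hy => ?_⟩
  · rw [← pow_mul, mul_comm, ← hgo, pow_orderOf_eq_one]
  have hfix := (hconj (g ^ m) y).mpr hy
  by_cases hya : π y • a = a
  · exact Or.inl ((hpt y).mp hya)
  right
  obtain ⟨q, ⟨hqQ, hqy⟩, huniq⟩ := CfsgLib.RankOneSetup.existsUnique_from_b hd.setup hya
  have hq1 : q = 1 := by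
    refine hd.fpf hrK hr1 hqQ ?_
    have he := huniq (π (g ^ m) * q * (π (g ^ m))⁻¹) ⟨hd.conj_Q hKD hqQ, by
      rw [mul_smul, mul_smul, inv_smul_eq_iff.mpr (show π v • a = π (g ^ m) • π v • a from
        hKD.2.symm), hqy, hfix]⟩
    exact (mul_inv_eq_iff_eq_mul.mp he).symm
  rw [hq1, one_smul] at hqy
  refine (hpt _).mp ?_
  rw [map_mul, map_inv, mul_smul, inv_smul_eq_iff, hqy]

section Tightly

variable {G : Type u} [Group G] [Finite G] {Q : Subgroup G}

/-- The involutions of the conjugates of `Q`. -/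
def conjugateInvolutions (Q : Subgroup G) : Set G :=
  {z | orderOf z = 2 ∧ ∃ g : G, g⁻¹ * z * g ∈ Q}

theorem conjugateInvolutions_conj (g : G) {z : G} (hz : z ∈ conjugateInvolutions Q) :
    g * z * g⁻¹ ∈ conjugateInvolutions Q := by
  obtain ⟨hz2, a, ha⟩ := hz
  refine ⟨by rw [StronglyEmbedded.orderOf_conj, hz2], g * a, ?_⟩
  rwa [show (g * a)⁻¹ * (g * z * g⁻¹) * (g * a) = a⁻¹ * z * a by group]

/-- The criterion applies to the involutions of the conjugates of `Q`. -/
theorem setting_of_tightlyEmbedded (hQ : IsTightlyEmbedded Q)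
    (hodd : ∀ g : G, g ∉ Subgroup.normalizer (Q : Set G) →
      Odd (Nat.card ↥(Q.map (MulAut.conj g).toMonoidHom ⊓ Subgroup.normalizer (Q : Set G))))
    (hnn : ¬ Q.Normal) :
    Setting (Subgroup.normalizer (Q : Set G)) (conjugateInvolutions Q) := by
  haveI : Fact (Nat.Prime 2) := ⟨Nat.prime_two⟩
  set N := Subgroup.normalizer (Q : Set G) with hN
  have hQN : Q ≤ N := Subgroup.le_normalizer
  have hin : ∀ a z : G, orderOf z = 2 → a⁻¹ * z * a ∈ Q → z ∈ N → a ∈ N := by
    intro a z hz hza hzN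
    by_contra ha
    refine Nat.not_even_iff_odd.mpr (hodd a ha) (even_card_of_mem hz
      ⟨Subgroup.mem_map.mpr ⟨_, hza, ?_⟩, hzN⟩)
    show a * (a⁻¹ * z * a) * a⁻¹ = z
    group
  have htight : ∀ g t : G, orderOf t = 2 → t ∈ Q → g * t * g⁻¹ ∈ Q → g ∈ N := by
    intro g t ht htQ hgt
    refine hin g (g * t * g⁻¹) (by rw [StronglyEmbedded.orderOf_conj, ht]) ?_ (hQN hgt)
    rwa [show g⁻¹ * (g * t * g⁻¹) * g = t by group]
  obtain ⟨z₀, hz₀Q, hz₀⟩ := exists_involution_of_even hQ.1
  refine ⟨fun h => hnn (Subgroup.normalizer_eq_top_iff.mp h), ?_, fun z hz => hz.1,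
    fun g z hz => conjugateInvolutions_conj g hz,
    ⟨z₀, ⟨hz₀, 1, by simpa using hz₀Q⟩, hQN hz₀Q⟩, ?_, ?_⟩
  · -- odd index
    obtain ⟨S⟩ : Nonempty (Sylow 2 N) := inferInstance
    set S₀ : Subgroup G := (S : Subgroup N).map N.subtype with hS₀
    obtain ⟨P, hP⟩ := (S.2.map N.subtype).exists_le_sylow
    have hS₀N : S₀ ≤ N := Subgroup.map_subtype_le _
    -- the normaliser of `S₀` lies in `N`
    have hnorm : ∀ g : G, g ∈ Subgroup.normalizer (S₀ : Set G) → g ∈ N := by
      intro g hg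
      -- an involution of `Q` in `S`
      have hu : IsPGroup 2 (Subgroup.zpowers (⟨z₀, hQN hz₀Q⟩ : N)) :=
        IsPGroup.of_card (n := 1) (by rw [Nat.card_zpowers, Subgroup.orderOf_mk, hz₀, pow_one])
      obtain ⟨S₁, hS₁⟩ := hu.exists_le_sylow
      obtain ⟨c, hc⟩ := MulAction.exists_smul_eq N S S₁
      have h1 : (⟨z₀, hQN hz₀Q⟩ : N) ∈ ((c • S : Sylow 2 N) : Subgroup N) :=
        hc ▸ hS₁ (Subgroup.mem_zpowers _)
      rw [Sylow.coe_subgroup_smul, Subgroup.mem_pointwise_smul_iff_inv_smul_mem] at h1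
      have hsS : (c : G)⁻¹ * z₀ * (c : G) ∈ S₀ := ⟨_, h1, by simp [mul_assoc]⟩
      have hsQ : (c : G)⁻¹ * z₀ * (c : G) ∈ Q := by
        have := (Subgroup.mem_normalizer_iff.mp (inv_mem c.2) z₀).mp hz₀Q
        rwa [inv_inv] at this
      have hso : orderOf ((c : G)⁻¹ * z₀ * (c : G)) = 2 := by
        rw [← hz₀]
        simpa using StronglyEmbedded.orderOf_conj (c : G)⁻¹ z₀
      refine hin g (g * ((c : G)⁻¹ * z₀ * (c : G)) * g⁻¹)
        (by rw [StronglyEmbedded.orderOf_conj, hso]) ?_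
        (hS₀N ((Subgroup.mem_normalizer_iff.mp hg _).mp hsS))
      rwa [show g⁻¹ * (g * ((c : G)⁻¹ * z₀ * (c : G)) * g⁻¹) * g = (c : G)⁻¹ * z₀ * (c : G) by group]
    have heq : S₀ = (P : Subgroup G) := by
      by_contra hne
      have hlt : S₀.subgroupOf P < ⊤ := lt_top_iff_ne_top.mpr fun h =>
        hne (le_antisymm hP (Subgroup.subgroupOf_eq_top.mp h))
      haveI : Group.IsNilpotent (P : Subgroup G) := P.2.isNilpotent
      obtain ⟨⟨g, hgP⟩, hgn, hgS⟩ := SetLike.exists_of_lt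
        (Group.normalizerCondition_of_isNilpotent _ hlt)
      refine hgS ?_
      have hgN : g ∈ N := hnorm g (Subgroup.mem_normalizer_iff.mpr fun x => by
        constructor
        · intro hx
          exact (Subgroup.mem_normalizer_iff.mp hgn ⟨x, hP hx⟩).mp hx
        · intro hx
          have hxP : x ∈ (P : Subgroup G) := by
            have := mul_mem (mul_mem (inv_mem hgP) (hP hx)) hgP
            rwa [show g⁻¹ * (g * x * g⁻¹) * g = x by group] at this
          exact (Subgroup.mem_normalizer_iff.mp hgn ⟨x, hxP⟩).mpr hx)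
      have hmem : (⟨g, hgN⟩ : N) ∈ (S : Subgroup N) := by
        have hle : (S : Subgroup N) ≤ (P : Subgroup G).comap N.subtype :=
          fun x hx => hP ⟨x, hx, rfl⟩
        rw [← S.3 (P.2.comap_subtype) hle]
        exact hgP
      exact ⟨_, hmem, rfl⟩
    rw [← Nat.not_even_iff_odd, even_iff_two_dvd]
    exact fun h => P.not_dvd_index (h.trans (Subgroup.index_dvd_of_le (heq ▸ hS₀N)))
  · -- conjugates of a member in `N`
    rintro z ⟨hz2, a, ha⟩ hzN g hgN
    have haN := hin a z hz2 ha hzN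
    have hzQ : z ∈ Q := by
      have := (Subgroup.mem_normalizer_iff.mp haN _).mp ha
      rwa [show a * (a⁻¹ * z * a) * a⁻¹ = z by group] at this
    refine hin g (g * z * g⁻¹) (by rw [StronglyEmbedded.orderOf_conj, hz2]) ?_ hgN
    rwa [show g⁻¹ * (g * z * g⁻¹) * g = z by group]
  · -- products
    rintro z ⟨hz2, a, ha⟩ w ⟨hw2, b, hb⟩ hc hne
    set c := a⁻¹ * w * a with hcdef
    have hc2 : orderOf c = 2 := by
      rw [hcdef, ← hw2]
      simpa using StronglyEmbedded.orderOf_conj a⁻¹ w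
    have hzc : Commute c (a⁻¹ * z * a) := by
      have := hc.symm.map (MulAut.conj a⁻¹).toMonoidHom
      simpa [hcdef] using this
    have hz' : orderOf (a⁻¹ * z * a) = 2 := by
      rw [← hz2]
      simpa using StronglyEmbedded.orderOf_conj a⁻¹ z
    have hcN : c ∈ N := htight c _ hz' ha (by rw [hzc.eq, mul_inv_cancel_right]; exact ha)
    have hcQ : c ∈ Q := by
      have h1 := hin (a⁻¹ * b) c hc2 (by
        rwa [show (a⁻¹ * b)⁻¹ * c * (a⁻¹ * b) = b⁻¹ * w * b by rw [hcdef]; group]) hcN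
      have := (Subgroup.mem_normalizer_iff.mp h1 _).mp hb
      rwa [show a⁻¹ * b * (b⁻¹ * w * b) * (a⁻¹ * b)⁻¹ = c by rw [hcdef]; group] at this
    refine ⟨orderOf_two_iff.mpr ⟨?_, fun e => hne ?_⟩, a, ?_⟩
    · rw [hc.symm.mul_mul_mul_comm, mul_self_eq_one hz2, mul_self_eq_one hw2, one_mul]
    · rw [eq_inv_of_mul_eq_one_left e, inv_eq_self hw2]
    · rw [show a⁻¹ * (z * w) * a = a⁻¹ * z * a * c by rw [hcdef]; group]
      exact mul_mem ha hcQ

/-- In the normal closure of `Q` its normaliser is strongly embedded. -/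
theorem stronglyEmbedded_normalClosure (P : Pieces.{u}) (hQ : IsTightlyEmbedded Q)
    (hodd : ∀ g : G, g ∉ Subgroup.normalizer (Q : Set G) →
      Odd (Nat.card ↥(Q.map (MulAut.conj g).toMonoidHom ⊓ Subgroup.normalizer (Q : Set G))))
    (hnn : ¬ Q.Normal) :
    IsStronglyEmbedded
      ((Subgroup.normalizer (Q : Set G)).subgroupOf (Subgroup.normalClosure (Q : Set G))) := by
  classical
  have h := setting_of_tightlyEmbedded hQ hodd hnn
  set N := Subgroup.normalizer (Q : Set G) with hN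
  set Z := conjugateInvolutions Q with hZ
  set K := Subgroup.normalClosure (Q : Set G) with hK
  have hQN : Q ≤ N := Subgroup.le_normalizer
  set K₀ := Subgroup.closure Z with hK₀
  have hK₀n : K₀.Normal := ⟨fun x hx g => by
    have hle : K₀ ≤ K₀.comap (MulAut.conj g).toMonoidHom :=
      (Subgroup.closure_le _).mpr fun z hz => Subgroup.subset_closure (h.conj_mem g z hz)
    exact hle hx⟩
  have hK₀K : K₀ ≤ K := (Subgroup.closure_le _).mpr fun z hz => by
    obtain ⟨-, a, ha⟩ := hz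
    have := Subgroup.normalClosure_normal.conj_mem _
      (Subgroup.le_normalClosure (G := G) (H := Q) ha) a
    rwa [show a * (a⁻¹ * z * a) * a⁻¹ = z by group] at this
  have hSE := h.stronglyEmbedded_closure P
  set L := N.subgroupOf K₀ with hL
  obtain ⟨z₀, hz₀, hz₀N⟩ := h.nonempty
  have hz₀K : z₀ ∈ K₀ := Subgroup.subset_closure hz₀
  -- involutions of `K₀` are members
  have hK₀Z : ∀ x : G, x ∈ K₀ → orderOf x = 2 → x ∈ Z := by
    intro x hx hx2
    obtain ⟨c, hc⟩ := isConj_iff.mp (isConj_involutions hSE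
      (a := ⟨z₀, hz₀K⟩) (b := ⟨x, hx⟩) (by rw [Subgroup.orderOf_mk]; exact h.order_two z₀ hz₀)
      (by rw [Subgroup.orderOf_mk]; exact hx2))
    rw [← show (c : G) * z₀ * (c : G)⁻¹ = x from congrArg Subtype.val hc]
    exact h.conj_mem _ z₀ hz₀
  -- `K₀` is transitive, so `G = K₀ N` and `K = K₀ Q`
  have hG : ∀ g : G, ∃ k ∈ K₀, k⁻¹ * g ∈ N := by
    intro g
    by_cases hg : g ∈ N
    · exact ⟨1, one_mem _, by simpa using hg⟩
    obtain ⟨v, hv⟩ := h.exists_swapper (show ((1 : G) : G ⧸ N) ≠ g from fun e => hg (by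
      simpa using QuotientGroup.eq.mp e))
    refine ⟨v, Subgroup.subset_closure hv.1, ?_⟩
    have := hv.2
    rw [MulAction.Quotient.smul_coe, smul_eq_mul, mul_one] at this
    exact QuotientGroup.eq.mp this
  have hKle : K ≤ K₀ ⊔ Q := by
    refine Subgroup.closure_le _ |>.mpr ?_
    intro x hx
    obtain ⟨q, hq, hqx⟩ := Group.mem_conjugatesOfSet_iff.mp hx
    obtain ⟨g, rfl⟩ := isConj_iff.mp hqx
    obtain ⟨k, hk, hkn⟩ := hG g
    have hq' := (Subgroup.mem_normalizer_iff.mp hkn q).mp hq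
    rw [show g * q * g⁻¹ = k * ((k⁻¹ * g) * q * (k⁻¹ * g)⁻¹) * k⁻¹ by group]
    exact mul_mem (mul_mem (Subgroup.mem_sup_left hk) (Subgroup.mem_sup_right hq'))
      (inv_mem (Subgroup.mem_sup_left hk))
  have hKN : ∀ x ∈ K, x ∈ N → ∃ q ∈ Q, ∃ k ∈ K₀, k ∈ N ∧ x = k * q := by
    intro x hx hxN
    haveI := hK₀n
    obtain ⟨k, hk, q, hq, rfl⟩ := Subgroup.mem_sup_of_normal_left.mp (hKle hx)
    refine ⟨q, hq, k, hk, ?_, rfl⟩
    have := mul_mem hxN (inv_mem (hQN hq))
    rwa [mul_inv_cancel_right] at this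
  -- the key fact: involutions of `K ∩ N` are members
  have hkey : ∀ x ∈ K, x ∈ N → orderOf x = 2 → x ∈ Z := by
    intro x hx hxN hx2
    obtain ⟨q, hq, k, hk, hkN, rfl⟩ := hKN x hx hxN
    by_cases h2 : RankTwo K₀
    · -- `Q` is odd modulo `K₀`
      obtain ⟨p, hp, r, d, hrL, hdL, ⟨i, hri⟩, hrd, hfix⟩ := exists_two_point_element hSE h2
      haveI : Fact p.Prime := ⟨hp⟩
      haveI : Fact (Nat.Prime 2) := ⟨Nat.prime_two⟩
      set a₀ : G ⧸ N := ((1 : G) : G ⧸ N) with ha₀
      set b₀ : G ⧸ N := ((d : G) : G ⧸ N) with hb₀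
      have hfa : ∀ g : G, g • a₀ = a₀ ↔ g ∈ N := fun g => by
        rw [ha₀, smul_coset_eq_iff, inv_one, one_mul, mul_one]
      have hab : b₀ ≠ a₀ := fun e => hdL (by
        have := QuotientGroup.eq.mp e.symm
        rw [inv_one, one_mul] at this
        exact this)
      have hrfix : ∀ c : G ⧸ N, (r : G) • c = c → c = a₀ ∨ c = b₀ := by
        intro c hc
        induction c using QuotientGroup.induction_on with
        | H g =>
        obtain ⟨y, hy, hyn⟩ := hG g
        have e : (g : G ⧸ N) = (y : G ⧸ N) := (QuotientGroup.eq.mpr hyn).symm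
        rw [e] at hc ⊢
        rcases hfix ⟨y, hy⟩ ((smul_coset_eq_iff y (r : G)).mp hc) with h1 | h1
        · exact Or.inl (QuotientGroup.eq.mpr (by
            rw [mul_one]; exact inv_mem (show y ∈ N from h1))).symm.symm
        · exact Or.inr (QuotientGroup.eq.mpr (show (d : G)⁻¹ * y ∈ N from h1)).symm
      have hrb : (r : G) • b₀ = b₀ := (smul_coset_eq_iff (d : G) (r : G)).mpr hrd
      -- `R = (Q ∩ K₀) ⟨r⟩`
      set T := Q ⊓ K₀ with hT
      have hrN : (r : G) ∈ N := hrL
      have hnT : ∀ g ∈ N, ∀ y ∈ T, g * y * g⁻¹ ∈ T := fun g hg y hy =>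
        ⟨(Subgroup.mem_normalizer_iff.mp hg y).mp hy.1, hK₀n.conj_mem y hy.2 g⟩
      have hrT : Subgroup.zpowers (r : G) ≤ Subgroup.normalizer (T : Set G) :=
        Subgroup.zpowers_le.mpr (Subgroup.mem_normalizer_iff.mpr fun y => ⟨hnT _ hrN y, fun hy => by
          have := hnT _ (inv_mem hrN) _ hy
          rwa [inv_inv, show (r : G)⁻¹ * ((r : G) * y * (r : G)⁻¹) * r = y by group] at this⟩)
      set R := T ⊔ Subgroup.zpowers (r : G) with hR
      have hRN : R ≤ N := sup_le (inf_le_left.trans hQN) (Subgroup.zpowers_le.mpr hrN)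
      have hQR : ∀ g ∈ Q, ∀ y ∈ R, g * y * g⁻¹ ∈ R := by
        intro g hg y hy
        have hle : R ≤ R.comap (MulAut.conj g).toMonoidHom := by
          refine sup_le (fun y hy => Subgroup.mem_sup_left (hnT g (hQN hg) y hy))
            (Subgroup.zpowers_le.mpr ?_)
          show g * (r : G) * g⁻¹ ∈ R
          rw [show g * (r : G) * g⁻¹ = (g * r * g⁻¹ * (r : G)⁻¹) * r by group]
          refine mul_mem (Subgroup.mem_sup_left (Subgroup.mem_inf.mpr ⟨?_, ?_⟩))
            (Subgroup.mem_sup_right (Subgroup.mem_zpowers _))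
          · rw [show g * (r : G) * g⁻¹ * (r : G)⁻¹ = g * ((r : G) * g⁻¹ * (r : G)⁻¹) by group]
            exact mul_mem hg ((Subgroup.mem_normalizer_iff.mp hrN _).mp (inv_mem hg))
          · exact mul_mem (hK₀n.conj_mem _ r.2 g) (inv_mem r.2)
        exact hle hy
      have hrp : IsPGroup p (Subgroup.zpowers (⟨r, Subgroup.mem_sup_right
          (Subgroup.mem_zpowers _)⟩ : R)) := by
        have hdvd : orderOf (⟨r, Subgroup.mem_sup_right (Subgroup.mem_zpowers _)⟩ : R) ∣ p ^ i :=
          orderOf_dvd_of_pow_eq_one (Subtype.ext (by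
            show (r : G) ^ p ^ i = 1
            rw [← SubgroupClass.coe_pow, hri, OneMemClass.coe_one]))
        obtain ⟨j, -, hj⟩ := (Nat.dvd_prime_pow hp).mp hdvd
        exact IsPGroup.of_card (n := j) (by rw [Nat.card_zpowers, hj])
      obtain ⟨P₁, hP₁⟩ := hrp.exists_le_sylow
      set P' := (P₁ : Subgroup R).map R.subtype with hP'
      have hrP : (r : G) ∈ P' := ⟨_, hP₁ (Subgroup.mem_zpowers _), rfl⟩
      have hP'R : P' ≤ R := Subgroup.map_subtype_le _
      -- `P'` fixes exactly `a₀` and `b₀`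
      have hPb : ∀ y ∈ P', y • b₀ = b₀ := by
        by_contra hno
        push Not at hno
        obtain ⟨y, hy, hyb⟩ := hno
        haveI : Group.IsNilpotent P' := (P₁.2.map R.subtype).isNilpotent
        have hlt : (stabilizer G b₀).subgroupOf P' < ⊤ := lt_top_iff_ne_top.mpr fun e =>
          hyb (show (⟨y, hy⟩ : P') ∈ (stabilizer G b₀).subgroupOf P' from e ▸ Subgroup.mem_top _)
        obtain ⟨⟨g, hgP⟩, hgn, hgS⟩ := SetLike.exists_of_lt
          (Group.normalizerCondition_of_isNilpotent _ hlt)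
        refine hgS ?_
        show g • b₀ = b₀
        have hconj : (g⁻¹ * (r : G) * g) • b₀ = b₀ := by
          refine (Subgroup.mem_normalizer_iff''.mp hgn ⟨r, hrP⟩).mp ?_
          show (r : G) • b₀ = b₀
          exact hrb
        rw [mul_smul, mul_smul, inv_smul_eq_iff] at hconj
        rcases hrfix _ hconj with e | e
        · exact absurd (MulAction.injective g
            (e.trans ((hfa g).mpr (hRN (hP'R hgP))).symm)) hab
        · exact e
      have hPfix : ∀ c : G ⧸ N, (∀ y ∈ P', y • c = c) → c = a₀ ∨ c = b₀ := fun c hc =>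
        hrfix c (hc _ hrP)
      have hRd : ∀ g ∈ Q, ∃ y ∈ T, (y⁻¹ * g) • b₀ = b₀ := by
        intro g hg
        let P₂ : Subgroup R :=
          (P'.map (MulAut.conj g).toMonoidHom).subgroupOf R
        have hle : P'.map (MulAut.conj g).toMonoidHom ≤ R := by
          rintro _ ⟨y, hy, rfl⟩
          exact hQR g hg y (hP'R hy)
        obtain ⟨P₃, hP₃⟩ := ((P₁.2.map R.subtype).map (MulAut.conj g).toMonoidHom).of_equiv
          (Subgroup.subgroupOfEquivOfLe hle).symm |>.exists_le_sylow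
        obtain ⟨t, ht⟩ := MulAction.exists_smul_eq R P₁ P₃
        have htR : (t : G) ∈ (T : Set G) * (Subgroup.zpowers (r : G) : Set G) := by
          rw [← Subgroup.coe_mul_of_right_le_normalizer_left _ _ hrT]
          exact t.2
        obtain ⟨t₀, ht₀, s, hs, hts⟩ := Set.mem_mul.mp htR
        refine ⟨t₀, ht₀, ?_⟩
        have hsP : ∀ y ∈ P', s * y * s⁻¹ ∈ P' := fun y hy => by
          have hs' : s ∈ P' := (Subgroup.zpowers_le.mpr hrP) hs
          exact mul_mem (mul_mem hs' hy) (inv_mem hs')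
        -- `t₀⁻¹ g` normalises `P'`
        have hn : ∀ y ∈ P', (t₀⁻¹ * g) * y * (t₀⁻¹ * g)⁻¹ ∈ P' := by
          intro y hy
          have h1 : (⟨g * y * g⁻¹, hle ⟨y, hy, rfl⟩⟩ : R) ∈ ((t • P₁ : Sylow p R) : Subgroup R) :=
            ht ▸ hP₃ (show g * y * g⁻¹ ∈ P'.map (MulAut.conj g).toMonoidHom from ⟨y, hy, rfl⟩)
          rw [Sylow.coe_subgroup_smul, Subgroup.mem_pointwise_smul_iff_inv_smul_mem] at h1
          have h2 : (t : G)⁻¹ * (g * y * g⁻¹) * (t : G) ∈ P' := ⟨_, h1, by simp [mul_assoc]⟩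
          have h3 := hsP _ h2
          rwa [← hts, show s * ((t₀ * s)⁻¹ * (g * y * g⁻¹) * (t₀ * s)) * s⁻¹ =
            t₀⁻¹ * g * y * (t₀⁻¹ * g)⁻¹ by group] at h3
        have hn' : ∀ y ∈ P', (t₀⁻¹ * g)⁻¹ * y * (t₀⁻¹ * g) ∈ P' := by
          intro y hy
          have hmap : P'.map (MulAut.conj (t₀⁻¹ * g)).toMonoidHom = P' := by
            refine Subgroup.eq_of_le_of_card_ge ?_
              (le_of_eq (Subgroup.card_map_of_injective (MulAut.conj _).injective).symm)
            rintro _ ⟨w, hw, rfl⟩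
            exact hn w hw
          rw [← hmap] at hy
          obtain ⟨w, hw, rfl⟩ := hy
          simpa [mul_assoc] using hw
        rcases hPfix ((t₀⁻¹ * g) • b₀) (fun y hy => by
          have := hPb _ (hn' y hy)
          rwa [mul_smul, mul_smul, inv_smul_eq_iff] at this) with e | e
        · exact absurd (MulAction.injective (t₀⁻¹ * g) (e.trans ((hfa _).mpr
            (mul_mem (inv_mem (hQN ht₀.1)) (hQN hg))).symm)) hab
        · exact e
      -- the image of `Q` modulo `K₀` is odd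
      set M := Q ⊓ stabilizer G b₀ with hM
      have hMle : M.map (MulAut.conj (d : G)⁻¹).toMonoidHom ≤
          Q.map (MulAut.conj (d : G)⁻¹).toMonoidHom ⊓ N := by
        rintro _ ⟨y, hy, rfl⟩
        refine ⟨⟨y, hy.1, rfl⟩, ?_⟩
        show (d : G)⁻¹ * y * (d : G)⁻¹⁻¹ ∈ N
        rw [inv_inv]
        exact (smul_coset_eq_iff (d : G) y).mp hy.2
      have hModd : Odd (Nat.card M) := by
        have := (hodd (d : G)⁻¹ fun e => hdL (show (d : G) ∈ N by simpa using inv_mem e)).of_dvd_nat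
          (Subgroup.card_dvd_of_le hMle)
        rwa [Subgroup.card_map_of_injective (MulAut.conj _).injective] at this
      haveI := hK₀n
      set π := QuotientGroup.mk' K₀ with hπ
      have himg : ∃ y ∈ M, π (k * q) = π y := by
        obtain ⟨y, hy, hyb⟩ := hRd q hq
        exact ⟨y⁻¹ * q, Subgroup.mem_inf.mpr ⟨mul_mem (inv_mem hy.1) hq, hyb⟩, by
          rw [map_mul, map_mul, map_inv, show π k = 1 from (QuotientGroup.eq_one_iff k).mpr hk,
            show π y = 1 from (QuotientGroup.eq_one_iff y).mpr hy.2, inv_one]⟩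
      obtain ⟨y, hy, hxy⟩ := himg
      have h21 : π (k * q) = 1 := by
        have hd2 : orderOf (π (k * q)) ∣ 2 := hx2 ▸ orderOf_map_dvd π _
        have hdM : orderOf (π (k * q)) ∣ Nat.card M := by
          rw [hxy]
          exact (orderOf_map_dvd π y).trans (Subgroup.orderOf_dvd_natCard _ hy)
        exact orderOf_eq_one_iff.mp
          (Nat.eq_one_of_dvd_coprimes (Nat.coprime_two_left.mpr hModd) hd2 hdM)
      exact hK₀Z _ ((QuotientGroup.eq_one_iff _).mp h21) hx2
    · -- one member at each coset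
      have hiso : IsIsolated (⟨z₀, hz₀K⟩ : K₀) := fun g hc => by
        by_contra hne
        refine h2 ⟨_, _, ?_, ?_, fun e => hne e.symm, hc⟩
        · rw [Subgroup.orderOf_mk]; exact h.order_two z₀ hz₀
        · rw [StronglyEmbedded.orderOf_conj, Subgroup.orderOf_mk]; exact h.order_two z₀ hz₀
      have hzs := ZStar.inZStar_of_isolated
        (t := (⟨z₀, hz₀K⟩ : K₀)) (by rw [Subgroup.orderOf_mk]; exact h.order_two z₀ hz₀) hiso
      set ρ := QuotientGroup.mk' (oddCore K₀) with hρ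
      have hρk : ρ ⟨k, hk⟩ ∈ Subgroup.zpowers (ρ ⟨z₀, hz₀K⟩) := by
        have hle : Subgroup.closure ((fun z : K₀ => (z : G)) ⁻¹' Z) ≤
            (Subgroup.zpowers (ρ ⟨z₀, hz₀K⟩)).comap ρ := by
          refine (Subgroup.closure_le _).mpr fun z hz => ?_
          obtain ⟨c, hc⟩ := isConj_iff.mp (isConj_involutions hSE
            (a := ⟨z₀, hz₀K⟩) (b := z) (by rw [Subgroup.orderOf_mk]; exact h.order_two z₀ hz₀)
            (by rw [← Subgroup.orderOf_coe]; exact h.order_two _ hz))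
          have h1 : ρ (c * ⟨z₀, hz₀K⟩ * c⁻¹ * (⟨z₀, hz₀K⟩ : K₀)⁻¹) = 1 :=
            (QuotientGroup.eq_one_iff _).mpr (hzs c)
          rw [hc, map_mul, map_inv, mul_inv_eq_one] at h1
          rw [SetLike.mem_coe, Subgroup.mem_comap, h1]
          exact Subgroup.mem_zpowers _
        rw [Subgroup.closure_closure_coe_preimage] at hle
        exact hle (Subgroup.mem_top _)
      obtain ⟨j, hj⟩ := Subgroup.mem_zpowers_iff.mp hρk
      have hz₀Q : z₀ ∈ Q := by
        obtain ⟨a, ha⟩ := hz₀.2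
        have haN : a ∈ N := h.mem_of_conj_mem (a⁻¹ * z₀ * a)
          (by simpa using h.conj_mem a⁻¹ z₀ hz₀) (hQN ha) a
          (by rwa [show a * (a⁻¹ * z₀ * a) * a⁻¹ = z₀ by group])
        have := (Subgroup.mem_normalizer_iff.mp haN _).mp ha
        rwa [show a * (a⁻¹ * z₀ * a) * a⁻¹ = z₀ by group] at this
      -- modulo `Q` the involution is odd
      haveI hQn : (Q.subgroupOf N).Normal := Subgroup.normal_in_normalizer
      set o : K₀ := ⟨k, hk⟩ * ((⟨z₀, hz₀K⟩ : K₀) ^ j)⁻¹ with ho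
      have hoodd : Odd (orderOf o) := by
        have hmem : o ∈ oddCore K₀ := (QuotientGroup.eq_one_iff _).mp (by
          show ρ o = 1
          rw [ho, map_mul, map_inv, map_zpow, hj, mul_inv_cancel])
        exact (TwoComponents.odd_card_oddCore K₀).of_dvd_nat
          (Subgroup.orderOf_dvd_natCard _ hmem)
      have hzN : z₀ ^ j ∈ Q := zpow_mem hz₀Q j
      have hoN : (o : G) ∈ N := by
        rw [ho, Subgroup.coe_mul, Subgroup.coe_inv, SubgroupClass.coe_zpow]
        exact mul_mem hkN (inv_mem (hQN hzN))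
      set σ := QuotientGroup.mk' (Q.subgroupOf N) with hσ
      have hxσ : σ ⟨k * q, hxN⟩ = σ ⟨o, hoN⟩ := by
        refine (QuotientGroup.eq.mpr ?_)
        show (k * q)⁻¹ * (o : G) ∈ Q
        rw [ho, Subgroup.coe_mul, Subgroup.coe_inv, SubgroupClass.coe_zpow,
          show (k * q)⁻¹ * (k * (z₀ ^ j)⁻¹) = q⁻¹ * (z₀ ^ j)⁻¹ by group]
        exact mul_mem (inv_mem hq) (inv_mem hzN)
      have h21 : σ ⟨k * q, hxN⟩ = 1 := by
        have hd2 : orderOf (σ ⟨k * q, hxN⟩) ∣ 2 := by
          refine (orderOf_map_dvd σ _).trans (dvd_of_eq ?_)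
          rw [Subgroup.orderOf_mk]
          exact hx2
        have hdo : orderOf (σ ⟨k * q, hxN⟩) ∣ orderOf o := by
          rw [hxσ]
          refine (orderOf_map_dvd σ _).trans (dvd_of_eq ?_)
          rw [Subgroup.orderOf_mk, Subgroup.orderOf_coe]
        exact orderOf_eq_one_iff.mp
          (Nat.eq_one_of_dvd_coprimes (Nat.coprime_two_left.mpr hoodd) hd2 hdo)
      have hkq : k * q ∈ Q :=
        (QuotientGroup.eq_one_iff (N := Q.subgroupOf N) (⟨k * q, hxN⟩ : N)).mp h21
      exact ⟨hx2, 1, by simpa using hkq⟩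
  -- the conclusion
  refine intro_of_conj_mem (fun htop => ?_) ?_ ?_
  · obtain ⟨b, hb⟩ := h.centred.exists_ne ((1 : G) : G ⧸ N)
    induction b using QuotientGroup.induction_on with
    | H g =>
    obtain ⟨k, hk, hkn⟩ := hG g
    refine hb (QuotientGroup.eq.mpr ?_)
    have hkN : k ∈ N := (Subgroup.subgroupOf_eq_top.mp htop) (hK₀K hk)
    rw [mul_one]
    refine inv_mem ?_
    have := mul_mem hkN hkn
    rwa [mul_inv_cancel_left] at this
  · refine even_card_of_mem (t := (⟨z₀, hK₀K hz₀K⟩ : K)) ?_ hz₀N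
    rw [Subgroup.orderOf_mk]
    exact h.order_two z₀ hz₀
  · intro t g ht htN hgt
    exact h.mem_of_conj_mem (t : G) (hkey _ t.2 htN (by rw [Subgroup.orderOf_coe]; exact ht)) htN
      (g : G) hgt

end Tightly

end CfsgLib.Criterion
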